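import Groth.Agent.Gabber51.Core
import Groth.Agent.EtConn51.Proper
import Groth.Agent.EtPBC50.StalkPullType
import Mathlib.Topology.Sheaves.LocalPredicate
import Mathlib.Topology.Sheaves.SheafCondition.UniqueGluing

/-!
Sources of the connectedness hypothesis.
-/

set_option autoImplicit false
universe u

open CategoryTheory CategoryTheory.Limits AlgebraicGeometry Opposite TopologicalSpace

namespace Groth.Agent.Gabber51

/-- If sections over a subset of a connected space are global sections, the subset is connected. -/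
theorem isConnected_of_bijective {X : TopCat.{u}} (S : Set X) [ConnectedSpace X]
    (h : ∀ F : TopCat.Sheaf (Type u) X, Function.Bijective
      (((TopCat.Sheaf.pullbackPushforwardAdjunction (Type u)
        (TopCat.ofHom ⟨(Subtype.val : S → X), continuous_subtype_val⟩)).unit.app F).hom.app (op ⊤))) :
    IsConnected S := by
  let f : TopCat.of S ⟶ X := TopCat.ofHom ⟨(Subtype.val : S → X), continuous_subtype_val⟩
  let F : TopCat.Sheaf (Type u) X := TopCat.sheafToTop (TopCat.of (ULift.{u} Bool))
  let G := (TopCat.Sheaf.pullback (Type u) f).obj F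
  let cst : ∀ (U : Opens X), ULift.{u} Bool → F.obj.obj (op U) := fun U b =>
    TopCat.ofHom (ContinuousMap.const _ b)
  refine ⟨?_, fun u v hu hv huv hSu hSv => ?_⟩
  · by_contra hne
    rw [Set.not_nonempty_iff_eq_empty] at hne
    have he : (cst ⊤ ⟨true⟩ : F.obj.obj (op ⊤)) = cst ⊤ ⟨false⟩ := (h F).1 (by
      refine TopCat.Presheaf.section_ext G _ _ _ fun z _ => ?_
      exact (Set.eq_empty_iff_forall_notMem.1 hne z.1 z.2).elim)
    obtain ⟨x⟩ : Nonempty X := inferInstance
    have := congrArg (fun φ : (Opens.toTopCat X).obj ⊤ ⟶ TopCat.of (ULift.{u} Bool) =>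
      φ (⟨x, trivial⟩ : (⊤ : Opens X))) he
    exact Bool.noConfusion (congrArg ULift.down (show (⟨true⟩ : ULift.{u} Bool) = ⟨false⟩ from this))
  by_contra hne
  rw [Set.not_nonempty_iff_eq_empty] at hne
  let O : Bool → Opens X := fun b => if b then ⟨u, hu⟩ else ⟨v, hv⟩
  have hdisj : ∀ (b c : Bool), b ≠ c → ∀ z : S, z.1 ∈ O b → z.1 ∈ O c → False := by
    rintro (_ | _) (_ | _) hbc z hb hc
    · exact hbc rfl
    · exact Set.eq_empty_iff_forall_notMem.1 hne z.1 ⟨z.2, hc, hb⟩
    · exact Set.eq_empty_iff_forall_notMem.1 hne z.1 ⟨z.2, hb, hc⟩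
    · exact hbc rfl
  let sf : ∀ b : Bool, G.obj.obj (op ((Opens.map f).obj (O b))) := fun b =>
    (EtPBC50.unitPre f F).app (op (O b)) (cst (O b) ⟨b⟩)
  obtain ⟨g, hg, -⟩ := TopCat.Sheaf.existsUnique_gluing' G (fun b => (Opens.map f).obj (O b))
    ((Opens.map f).obj ⊤) (fun b => homOfLE fun z _ => trivial)
    (fun z _ => by
      rw [Opens.mem_iSup]
      rcases huv z.2 with hz | hz
      · exact ⟨true, hz⟩
      · exact ⟨false, hz⟩)
    sf (fun b c => by
      refine TopCat.Presheaf.section_ext G _ _ _ fun z hz => ?_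
      by_cases hbc : b = c
      · subst hbc; rfl
      · exact (hdisj b c hbc z hz.1 hz.2).elim)
  obtain ⟨s, hs⟩ := (h F).2 g
  let s' : (Opens.toTopCat X).obj ⊤ ⟶ TopCat.of (ULift.{u} Bool) := s
  have hval : ∀ (b : Bool) (z : S) (hz : z.1 ∈ O b), s' (⟨z.1, trivial⟩ : (⊤ : Opens X)) = ⟨b⟩ := by
    intro b z hz
    have he : TopCat.Presheaf.germ F.obj ⊤ z.1 trivial s =
        TopCat.Presheaf.germ F.obj (O b) z.1 hz (cst (O b) ⟨b⟩) := by
      refine (EtPBC50.stalkUnit_bijective f F z).1 ((EtPBC50.germ_stalkUnit_apply f F z ⊤ trivial s).trans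
        (Eq.trans ?_ (EtPBC50.germ_stalkUnit_apply f F z (O b) hz _).symm))
      rw [show (EtPBC50.unitPre f F).app (op ⊤) s = g from hs]
      refine (TopCat.Presheaf.germ_res_apply G.obj
        (homOfLE (fun w _ => trivial) : (Opens.map f).obj (O b) ⟶ (Opens.map f).obj ⊤) z hz g).symm.trans ?_
      exact congrArg _ (hg b)
    obtain ⟨W, hzW, i₁, i₂, hW⟩ := TopCat.Presheaf.germ_eq F.obj z.1 _ _ _ _ he
    exact congrArg (fun φ : (Opens.toTopCat X).obj W ⟶ TopCat.of (ULift.{u} Bool) =>
      φ (⟨z.1, hzW⟩ : W)) hW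
  have hlc : IsLocallyConstant fun x : X => s' (⟨x, trivial⟩ : (⊤ : Opens X)) := by
    refine (IsLocallyConstant.iff_continuous _).2 ?_
    exact s'.hom.continuous.comp (continuous_id.subtype_mk fun _ => trivial)
  obtain ⟨z, hz, hzu⟩ := hSu
  obtain ⟨z', hz', hzv⟩ := hSv
  have e1 := hval true ⟨z, hz⟩ hzu
  have e2 := hval false ⟨z', hz'⟩ hzv
  exact Bool.noConfusion (congrArg ULift.down ((e1.symm.trans (hlc.apply_eq_of_preconnectedSpace z z')).trans e2))

variable {Z X : Scheme.{u}} (i : Z ⟶ X)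

/-- The hypothesis of Gabber's criterion gives connectedness. -/
theorem connFinite_of_bijective
    (h2 : ∀ (X' : Scheme.{u}) (π : X' ⟶ X) [IsFinite π] (F : TopCat.Sheaf (Type u) X'.carrier),
      Function.Bijective
      (((TopCat.Sheaf.pullbackPushforwardAdjunction (Type u)
        (TopCat.ofHom ⟨(Subtype.val : (Set.range (pullback.snd i π)) → X'), continuous_subtype_val⟩)).unit.app F).hom.app (op ⊤))) :
    ConnFinite i := by
  intro X' p _ _
  rw [← Scheme.Pullback.range_snd]
  have : ConnectedSpace X'.carrier := inferInstanceAs (ConnectedSpace X')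
  exact isConnected_of_bijective _ (h2 X' p)

/-- Proper schemes over henselian pairs. -/
theorem connFinite_of_henselian (A : Type u) [CommRing A] (I : Ideal A) [HenselianRing A I]
    (f : X ⟶ Spec (CommRingCat.of A)) [IsProper f]
    (hi : Set.range i = f ⁻¹' PrimeSpectrum.zeroLocus (I : Set A)) : ConnFinite i := by
  intro X' p _ _
  have h := EtConn51.isConnected_inter_closure A I (p ≫ f) (genericPoint X')
  rw [genericPoint_closure, Set.inter_univ] at h
  rw [hi]
  exact h

end Groth.Agent.Gabber51
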