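import Groth.Agent.SpecSp50.Basic
import Mathlib.Topology.Spectral.Basic
import Mathlib.Topology.QuasiSeparated

/-!
An open subset containing all pairs of generizations of two compact sets contains a product
neighbourhood.
-/

set_option autoImplicit false
universe u

open Set Topology TopologicalSpace

namespace Groth.Agent.Gabber51

/-- A point lying in all quasi-compact open neighbourhoods of a compact set generizes a point of it. -/
theorem exists_specializes_of_forall_mem {A : Type u} [TopologicalSpace A] [PrespectralSpace A]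
    {K : Set A} (hK : IsCompact K) {x : A}
    (hx : ∀ O : Set A, IsOpen O → IsCompact O → K ⊆ O → x ∈ O) : ∃ w ∈ K, x ⤳ w := by
  by_contra hne
  simp only [not_exists, not_and] at hne
  have : ∀ w ∈ K, ∃ W : Set A, IsOpen W ∧ IsCompact W ∧ w ∈ W ∧ x ∉ W := fun w hw => by
    obtain ⟨V, hVo, hwV, hxV⟩ := not_specializes_iff_exists_open.1 (hne w hw)
    obtain ⟨W, ⟨hWo, hWc⟩, hwW, hWV⟩ :=
      (PrespectralSpace.isTopologicalBasis (X := A)).exists_subset_of_mem_open hwV hVo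
    exact ⟨W, hWo, hWc, hwW, fun h => hxV (hWV h)⟩
  choose W hWo hWc hwW hxW using this
  obtain ⟨t, ht⟩ := hK.elim_finite_subcover (fun w : K => W w w.2) (fun w => hWo w w.2)
    (fun w hw => mem_iUnion.2 ⟨⟨w, hw⟩, hwW w hw⟩)
  have := hx (⋃ w ∈ t, W w.1 w.2) (isOpen_biUnion fun w _ => hWo w.1 w.2)
    (t.isCompact_biUnion fun w _ => hWc w.1 w.2) ht
  simp only [mem_iUnion] at this
  obtain ⟨w, -, hw⟩ := this
  exact hxW w.1 w.2 hw

/-- The product neighbourhood lemma. -/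
theorem exists_open_pair {R A B : Type u} [TopologicalSpace R] [SpectralSpace R]
    [TopologicalSpace A] [PrespectralSpace A] [CompactSpace A] [QuasiSeparatedSpace A]
    [TopologicalSpace B] [PrespectralSpace B] [CompactSpace B] [QuasiSeparatedSpace B]
    {p : R → A} {q : R → B} (hp : Continuous p) (hq : Continuous q)
    (hpc : ∀ O : Set A, IsOpen O → IsCompact O → IsCompact (p ⁻¹' O))
    (hqc : ∀ O : Set B, IsOpen O → IsCompact O → IsCompact (q ⁻¹' O))
    {K : Set A} (hK : IsCompact K) {L : Set B} (hL : IsCompact L) {W : Set R} (hW : IsOpen W)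
    (h : ∀ r, (∃ w ∈ K, p r ⤳ w) → (∃ w ∈ L, q r ⤳ w) → r ∈ W) :
    ∃ (O : Set A) (O' : Set B), IsOpen O ∧ K ⊆ O ∧ IsOpen O' ∧ L ⊆ O' ∧
      ∀ r, p r ∈ O → q r ∈ O' → r ∈ W := by
  let ι := {O : Set A // IsOpen O ∧ IsCompact O ∧ K ⊆ O} × {O : Set B // IsOpen O ∧ IsCompact O ∧ L ⊆ O}
  have : Nonempty ι := ⟨⟨univ, isOpen_univ, isCompact_univ, subset_univ _⟩,
    ⟨univ, isOpen_univ, isCompact_univ, subset_univ _⟩⟩
  let t : ι → Set R := fun k => p ⁻¹' k.1.1 ∩ q ⁻¹' k.2.1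
  have hdir : Directed (· ⊇ ·) t := fun k l =>
    ⟨(⟨k.1.1 ∩ l.1.1, k.1.2.1.inter l.1.2.1,
        k.1.2.2.1.inter_of_isOpen l.1.2.2.1 k.1.2.1 l.1.2.1, subset_inter k.1.2.2.2 l.1.2.2.2⟩,
      ⟨k.2.1 ∩ l.2.1, k.2.2.1.inter l.2.2.1,
        k.2.2.2.1.inter_of_isOpen l.2.2.2.1 k.2.2.1 l.2.2.1, subset_inter k.2.2.2.2 l.2.2.2.2⟩),
      fun r hr => ⟨hr.1.1, hr.2.1⟩, fun r hr => ⟨hr.1.2, hr.2.2⟩⟩
  letI tR : TopologicalSpace R := inferInstance
  obtain ⟨k, hk⟩ :=
    @IsCompact.elim_directed_family_closed R (constructibleTopology R) Wᶜ ι _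
      (@IsClosed.isCompact R (constructibleTopology R) _ SpecSp50.compactSpace_cons
        (SpecSp50.isClosed_cons_of_isClosed hW.isClosed_compl))
      t (fun k => @IsClosed.inter R (p ⁻¹' k.1.1) (q ⁻¹' k.2.1) (constructibleTopology R)
        (SpecSp50.isClosed_cons_of_qc (k.1.2.1.preimage hp) (hpc _ k.1.2.1 k.1.2.2.1))
        (SpecSp50.isClosed_cons_of_qc (k.2.2.1.preimage hq) (hqc _ k.2.2.1 k.2.2.2.1)))
      (by
        refine eq_empty_iff_forall_notMem.2 fun r ⟨hr, hr'⟩ => hr (h r ?_ ?_)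
        · refine exists_specializes_of_forall_mem hK fun O ho hc hKO => ?_
          exact (mem_iInter.1 hr' (⟨O, ho, hc, hKO⟩, ⟨univ, isOpen_univ, isCompact_univ, subset_univ _⟩)).1
        · refine exists_specializes_of_forall_mem hL fun O ho hc hLO => ?_
          exact (mem_iInter.1 hr' (⟨univ, isOpen_univ, isCompact_univ, subset_univ _⟩, ⟨O, ho, hc, hLO⟩)).2)
      hdir
  refine ⟨k.1.1, k.2.1, k.1.2.1, k.1.2.2.2, k.2.2.1, k.2.2.2.2, fun r h1 h2 => ?_⟩
  by_contra hr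
  exact (eq_empty_iff_forall_notMem.1 hk r) ⟨hr, h1, h2⟩

end Groth.Agent.Gabber51
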