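import Groth.Agent.Approx60.FiniteLimit
import Groth.Agent.SchBasics.Reduced
import Groth.Agent.LimTop61.Points
import Mathlib.AlgebraicGeometry.IdealSheaf.Subscheme
import Mathlib.AlgebraicGeometry.AffineTransitionLimit

/-!
Closures of points in schemes integral over `X` meet a closed subset in connected sets as soon as this
holds for integral schemes finite over `X`.
-/

set_option autoImplicit false
set_option backward.isDefEq.respectTransparency false
universe u

open CategoryTheory CategoryTheory.Limits AlgebraicGeometry TopologicalSpace Opposite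

namespace Groth.Agent.Gabber51

/-- Every integral scheme finite over `X` meets the closed subscheme in a connected set. -/
def ConnFinite {Z X : Scheme.{u}} (i : Z ⟶ X) : Prop :=
  ∀ (X' : Scheme.{u}) (p : X' ⟶ X) [IsFinite p] [IsIntegral X'],
    _root_.IsConnected (p ⁻¹' Set.range i)

variable {Z X : Scheme.{u}} (i : Z ⟶ X)

/-- For a finite scheme, irreducible closed subsets meet the closed subscheme in connected sets. -/
theorem isConnected_inter_of_finite (H : ConnFinite i) {D : Scheme.{u}} (p : D ⟶ X) [IsFinite p]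
    (C : Set D) (hC : IsClosed C) (hC' : IsIrreducible C) :
    _root_.IsConnected (C ∩ p ⁻¹' Set.range i) := by
  let V := Scheme.IdealSheafData.vanishingIdeal (X := D) ⟨C, hC⟩
  let ι := V.subschemeι
  have hι : Set.range ι = C := by
    rw [Scheme.IdealSheafData.range_subschemeι, Scheme.IdealSheafData.coe_support_vanishingIdeal]; rfl
  have : IrreducibleSpace V.subscheme := by
    have hirr : IsIrreducible (Set.range ι) := hι ▸ hC'
    have h := isIrreducible_iff_irreducibleSpace.mp hirr
    let e := ι.isClosedEmbedding.isEmbedding.toHomeomorph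
    exact (irreducibleSpace_def _).mpr (by
      have := (IrreducibleSpace.isIrreducible_univ (Set.range ι)).image e.symm
        e.symm.continuous.continuousOn
      rwa [Set.image_univ, e.symm.surjective.range_eq] at this)
  have : IsReduced V.subscheme := SchBasics.isReduced_vanishingIdeal_subscheme _
  have : IsIntegral V.subscheme := isIntegral_of_irreducibleSpace_of_isReduced _
  have h := (H V.subscheme (ι ≫ p)).image ι ι.continuous.continuousOn
  convert h using 1
  rw [show ⇑(ι ≫ p) ⁻¹' Set.range i = ι ⁻¹' (p ⁻¹' Set.range i) from rfl,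
    Set.image_preimage_eq_inter_range, hι, Set.inter_comm]

/-- In a scheme integral over `X`, closures of points meet the closed subscheme in connected sets. -/
theorem isConnected_inter_closure [CompactSpace X] [QuasiSeparatedSpace X] (hi : IsClosed (Set.range i))
    (H : ConnFinite i) {T : Scheme.{u}} (π : T ⟶ X) [IsIntegralHom π] (t : T) :
    _root_.IsConnected (closure {t} ∩ π ⁻¹' Set.range i) := by
  obtain ⟨α, _, _, _, D, τ, ⟨hl⟩, hD⟩ := Approx60.exists_integral_limit π
  let E := D ⋙ Over.forget X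
  let c := (Over.forget X).mapCone (Cone.mk (Over.mk π) τ)
  have hc : IsLimit c := isLimitOfPreserves _ hl
  have hfin : ∀ (a b : αᵒᵖ) (f : a ⟶ b), IsAffineHom (E.map f) := fun a b f => by
    have := (hD a).1
    have := (hD b).1
    have : IsAffineHom (E.map f ≫ (D.obj b).hom) := by
      rw [show E.map f ≫ (D.obj b).hom = (D.obj a).hom from Over.w (D.map f)]; infer_instance
    exact MorphismProperty.of_postcomp @IsAffineHom (W' := @IsSeparated) (E.map f) (D.obj b).hom
      inferInstance this
  have : CompactSpace T := QuasiCompact.compactSpace_of_compactSpace π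
  let p : ∀ a, T ⟶ (D.obj a).left := fun a => (τ.app a).left
  have hp : ∀ a, p a ≫ (D.obj a).hom = π := fun a => Over.w (τ.app a)
  have hint : ∀ a, IsIntegralHom (p a) := fun a => by
    have := (hD a).1
    have : IsIntegralHom (p a ≫ (D.obj a).hom) := by rw [hp]; infer_instance
    exact IsIntegralHom.of_comp (p a) (D.obj a).hom
  let S : Set T := closure {t} ∩ π ⁻¹' Set.range i
  have hQ : ∀ a, p a '' S = p a '' closure {t} ∩ (D.obj a).hom ⁻¹' Set.range i := fun a => by
    rw [← Set.image_inter_preimage]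
    refine congrArg (fun A => p a '' (closure {t} ∩ A)) ?_
    rw [← Set.preimage_comp]
    exact congrArg (fun φ : T ⟶ X => φ ⁻¹' Set.range i) (hp a).symm
  have hQc : ∀ a, _root_.IsConnected (p a '' S) := fun a => by
    have := (hD a).1
    have := hint a
    rw [hQ]
    exact isConnected_inter_of_finite i H (D.obj a).hom _ ((p a).isClosedMap _ isClosed_closure)
      ((isIrreducible_singleton.closure).image _ (p a).continuous.continuousOn)
  refine ⟨?_, fun u v hu hv huv hSu hSv => ?_⟩
  · obtain ⟨a⟩ : Nonempty αᵒᵖ := inferInstance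
    exact (hQc a).1.of_image
  by_contra hne
  rw [Set.not_nonempty_iff_eq_empty] at hne
  have hSc : IsClosed S := isClosed_closure.inter (hi.preimage π.continuous)
  have hA : IsCompact (S \ v) := (hSc.sdiff hv).isCompact
  have hB : IsCompact (S \ u) := (hSc.sdiff hu).isCompact
  obtain ⟨u', hu'c, hu'o, hAu, hu'u⟩ := PrespectralSpace.exists_isCompact_and_isOpen_between hA hu
    (fun x hx => (huv hx.1).resolve_right hx.2)
  obtain ⟨v', hv'c, hv'o, hBv, hv'v⟩ := PrespectralSpace.exists_isCompact_and_isOpen_between hB hv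
    (fun x hx => (huv hx.1).resolve_left hx.2)
  obtain ⟨a₁, U, -, hU⟩ := exists_preimage_eq E c hc ⟨u', hu'o⟩ hu'c
  obtain ⟨a₂, V, -, hV⟩ := exists_preimage_eq E c hc ⟨v', hv'o⟩ hv'c
  obtain ⟨a, f₁, f₂, -⟩ := IsCofilteredOrEmpty.cone_objs a₁ a₂
  let U' : Set (D.obj a).left := E.map f₁ ⁻¹' (U : Set (E.obj a₁))
  let V' : Set (D.obj a).left := E.map f₂ ⁻¹' (V : Set (E.obj a₂))
  have hU' : ∀ s : T, p a s ∈ U' ↔ s ∈ u' := fun s => by
    change E.map f₁ (c.π.app a s) ∈ U ↔ _
    rw [LimTop61.π_apply E c f₁ s]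
    exact Set.ext_iff.1 (congrArg SetLike.coe hU) s
  have hV' : ∀ s : T, p a s ∈ V' ↔ s ∈ v' := fun s => by
    change E.map f₂ (c.π.app a s) ∈ V ↔ _
    rw [LimTop61.π_apply E c f₂ s]
    exact Set.ext_iff.1 (congrArg SetLike.coe hV) s
  have hout : ∀ s ∈ S, s ∈ u → s ∉ v := fun s hs h1 h2 =>
    (Set.eq_empty_iff_forall_notMem.1 hne s) ⟨hs, h1, h2⟩
  obtain ⟨x, ⟨s, hs, rfl⟩, hxU, hxV⟩ := (hQc a).2 U' V' (U.2.preimage (E.map f₁).continuous)
    (V.2.preimage (E.map f₂).continuous)
    (by
      rintro _ ⟨s, hs, rfl⟩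
      rcases huv hs with h | h
      · exact Or.inl ((hU' s).2 (hAu ⟨hs, hout s hs h⟩))
      · exact Or.inr ((hV' s).2 (hBv ⟨hs, fun h' => hout s hs h' h⟩)))
    (by
      obtain ⟨s, hs, h⟩ := hSu
      exact ⟨_, ⟨s, hs, rfl⟩, (hU' s).2 (hAu ⟨hs, hout s hs h⟩)⟩)
    (by
      obtain ⟨s, hs, h⟩ := hSv
      exact ⟨_, ⟨s, hs, rfl⟩, (hV' s).2 (hBv ⟨hs, fun h' => hout s hs h' h⟩)⟩)
  exact hout s hs (hu'u ((hU' s).1 hxU)) (hv'v ((hV' s).1 hxV))

end Groth.Agent.Gabber51
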