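import Groth.Agent.Gabber51.Points
import Groth.Agent.Gabber51.Compact
import Groth.Agent.Gabber51.Topology
import Groth.Prelude.Def_EtCore

/-!
Sections over a closed subscheme meeting every irreducible finite scheme in a connected set.
-/

set_option autoImplicit false
set_option backward.isDefEq.respectTransparency.types false
universe u

open CategoryTheory CategoryTheory.Limits AlgebraicGeometry Opposite
open Groth.Agent.Unr55.EtSh
open Groth.Agent.LimTop61 (AbsClosure.T AbsClosure.π)

namespace Groth.Agent.Gabber51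

variable {Z X : Scheme.{u}} (i : Z ⟶ X) [IsClosedImmersion i] [CompactSpace X] [QuasiSeparatedSpace X]

omit [QuasiSeparatedSpace X] in
/-- The closed subscheme meets every nonempty closed subset. -/
theorem eq_univ_of_range_subset (H : ConnFinite i) {W : Set X} (hW : IsOpen W) (h : Set.range i ⊆ W) :
    W = Set.univ := by
  by_contra hne
  obtain ⟨x, hx, hxc⟩ := hW.isClosed_compl.exists_closed_singleton (Set.nonempty_compl.2 hne)
  obtain ⟨y, hy, hyi⟩ := (isConnected_inter_of_finite i H (𝟙 X) {x} hxc isIrreducible_singleton).1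
  exact hx (h (Set.mem_singleton_iff.1 hy ▸ hyi))

/-- The unique map to the terminal object. -/
noncomputable def toTop (U : X.Etale) : U ⟶ EtCoh.top X := (EtCore.topIsTerminal X).from U

omit [CompactSpace X] [QuasiSeparatedSpace X] in
theorem map_toTop (N : EtCoh.Ab X) {U V : X.Etale} (g : V ⟶ U) (τ : EtCoh.sect N (EtCoh.top X)) :
    N.obj.map g.op (N.obj.map (toTop U).op τ) = N.obj.map (toTop V).op τ := by
  rw [← ConcreteCategory.comp_apply, ← N.obj.map_comp, ← op_comp,
    (EtCore.topIsTerminal X).hom_ext (g ≫ toTop U) (toTop V)]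

omit [CompactSpace X] [QuasiSeparatedSpace X] in
/-- Sections over the closed subscheme lift locally on the etale site. -/
theorem exists_local_lift (F : EtCoh.Ab X)
    (τ : EtCoh.sect ((EtCoh.push i).obj ((EtCoh.pull i).obj F)) (EtCoh.top X)) (z : Z) :
    ∃ (U : X.Etale) (_ : IsAffine U.left) (σ : EtCoh.sect F U),
      ((EtCoh.pullPushAdj i).unit.app F).hom.app (op U) σ =
        ((EtCoh.push i).obj ((EtCoh.pull i).obj F)).obj.map (toTop U).op τ ∧
      i z ∈ Set.range U.hom := by
  let G := (EtCoh.pull i).obj F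
  let N := (EtCoh.push i).obj G
  let η : F ⟶ N := (EtCoh.pullPushAdj i).unit.app F
  obtain ⟨K, _, _, e, tz, htz⟩ := point_over (EtCoh.top Z) z
  have he : e default = z := by
    have h1 : hom e tz = e := (Category.comp_id _).symm.trans (Over.w tz)
    rw [← h1]; exact htz
  let s₀ : Pt (e ≫ i) (EtCoh.top X) := mkPt _ (e ≫ i) (Category.comp_id _)
  obtain ⟨a, ha⟩ := (theta_bijective i e F).2 (germ e G (ptUp i e s₀) τ)
  obtain ⟨V, s, σ, rfl⟩ := exists_germ_eq (e ≫ i) F a
  rw [theta_germ] at ha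
  have hs₀ : (Scheme.pointSmallEtale e).fiber.map ((EtCoh.bc i).map (toTop V)) (ptUp i e s) =
      ptUp i e s₀ := by
    rw [← ptUp_map]
    refine congrArg (ptUp i e) (hom_ext _ ?_)
    exact ((Category.comp_id _).symm.trans (Over.w _)).trans (((Category.comp_id _).symm.trans (Over.w s₀)).symm)
  let D : EtCoh.sect G ((EtCoh.bc i).obj V) :=
    (η.hom.app (op V) σ : EtCoh.sect N V) - (N.obj.map (toTop V).op τ : EtCoh.sect N V)
  have hD : germ e G (ptUp i e s) D = 0 := by
    refine (map_sub (germ e G (ptUp i e s)) _ _).trans (sub_eq_zero.2 ?_)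
    exact ha.trans ((congrArg (fun p => germ e G p τ) hs₀).symm.trans
      (germ_map e G ((EtCoh.bc i).map (toTop V)) (ptUp i e s) τ).symm)
  have hmem := (EtCore45.germ_eq_zero_iff_mem G e (ptUp i e s) D).1 hD
  have : IsClosedImmersion (pullback.fst V.hom i) := MorphismProperty.pullback_fst _ _ ‹_›
  obtain ⟨O', hO'o, hO'⟩ :=
    (pullback.fst V.hom i).isEmbedding.isInducing.isOpen_iff.1 (vanishing G D).2
  have hv : hom (e ≫ i) s default ∈ O' := by
    have h1 : (hom e (ptUp i e s) ≫ pullback.fst V.hom i) default ∈ O' := hO'.ge hmem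
    rwa [show hom e (ptUp i e s) ≫ pullback.fst V.hom i = hom (e ≫ i) s from pullback.lift_fst _ _ _] at h1
  obtain ⟨_, ⟨O, hO, rfl⟩, hvO, hOO'⟩ := V.left.isBasis_affineOpens.exists_subset_of_mem_open hv hO'o
  refine ⟨openSub V O, hO, F.obj.map (openSubι V O).op σ, ?_, ?_⟩
  · have h0 : G.obj.map ((EtCoh.bc i).map (openSubι V O)).op D = 0 := by
      refine (map_eq_zero_iff_range_le G D _).2 ?_
      rintro _ ⟨q, rfl⟩
      refine hO'.le (hOO' ?_)
      have h1 : (((EtCoh.bc i).map (openSubι V O)).left ≫ pullback.fst V.hom i) q ∈ (O : Set V.left) := by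
        rw [(EtCoh.isPullback_bc_map i (openSubι V O)).w]
        exact (range_openSubι V O).le ⟨_, rfl⟩
      exact h1
    rw [← map_toTop N (openSubι V O), ← sub_eq_zero]
    have h1 := ConcreteCategory.congr_hom (η.hom.naturality (openSubι V O).op) σ
    have h2 := map_sub (N.obj.map (openSubι V O).op).hom (η.hom.app (op V) σ) (N.obj.map (toTop V).op τ)
    refine Eq.trans ?_ h0
    refine Eq.trans ?_ h2.symm
    exact congrArg (fun a : EtCoh.sect N (openSub V O) => a - N.obj.map (openSubι V O).op (N.obj.map (toTop V).op τ)) h1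
  · refine ⟨⟨_, hvO⟩, ?_⟩
    show V.hom (hom (e ≫ i) s default) = i z
    rw [← Scheme.Hom.comp_apply, show hom (e ≫ i) s ≫ V.hom = e ≫ i from Over.w s,
      Scheme.Hom.comp_apply, he]

section Cov

variable (F : EtCoh.Ab X) {J : Type u} (U : J → X.Etale)

/-- The fibre product of two members of a family. -/
noncomputable def R2 (j k : J) : X.Etale :=
  have : Etale (U j).hom := (U j).prop
  have : Etale (U k).hom := (U k).prop
  Scheme.Etale.mk (pullback.fst (U j).hom (U k).hom ≫ (U j).hom)

/-- First projection. -/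
noncomputable def pr1 (j k : J) : R2 U j k ⟶ U j :=
  MorphismProperty.Over.homMk (pullback.fst (U j).hom (U k).hom) rfl trivial

/-- Second projection. -/
noncomputable def pr2 (j k : J) : R2 U j k ⟶ U k :=
  MorphismProperty.Over.homMk (pullback.snd (U j).hom (U k).hom) pullback.condition.symm trivial

variable (σ : ∀ j, EtCoh.sect F (U j))

/-- Difference of two members on their fibre product. -/
noncomputable def diff (j k : J) : EtCoh.sect F (R2 U j k) :=
  F.obj.map (pr1 U j k).op (σ j) - F.obj.map (pr2 U j k).op (σ k)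

variable (τ : EtCoh.sect ((EtCoh.push i).obj ((EtCoh.pull i).obj F)) (EtCoh.top X))
  (hσ : ∀ j, ((EtCoh.pullPushAdj i).unit.app F).hom.app (op (U j)) (σ j) =
        ((EtCoh.push i).obj ((EtCoh.pull i).obj F)).obj.map (toTop (U j)).op τ)
  (hcov : ∀ z : Z, ∃ j, i z ∈ Set.range (U j).hom)

include hσ in
omit [CompactSpace X] [QuasiSeparatedSpace X] [IsClosedImmersion i] in
theorem unit_diff (j k : J) :
    ((EtCoh.pullPushAdj i).unit.app F).hom.app (op (R2 U j k)) (diff F U σ j k) = 0 := by
  let N := (EtCoh.push i).obj ((EtCoh.pull i).obj F)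
  have h : ∀ (l : J) (g : R2 U j k ⟶ U l),
      ((EtCoh.pullPushAdj i).unit.app F).hom.app (op (R2 U j k)) (F.obj.map g.op (σ l)) =
        N.obj.map (toTop (R2 U j k)).op τ := fun l g =>
    (ConcreteCategory.congr_hom (((EtCoh.pullPushAdj i).unit.app F).hom.naturality g.op) (σ l)).trans
      ((congrArg (N.obj.map g.op) (hσ l)).trans (map_toTop N g τ))
  rw [diff, map_sub, h, h, sub_self]

include hσ hcov in
/-- Pairs of generizations of points over the closed subscheme lie in the vanishing locus. -/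
theorem mem_vanishing_diff (H : ConnFinite i) (j k : J) (r : (R2 U j k).left)
    (h1 : ∃ w, (U j).hom w ∈ Set.range i ∧ (pr1 U j k).left r ⤳ w)
    (h2 : ∃ w, (U k).hom w ∈ Set.range i ∧ (pr2 U j k).left r ⤳ w) :
    r ∈ vanishing F (diff F U σ j k) := by
  have hU : ∀ l, Etale (U l).hom := fun l => (U l).prop
  let π : AbsClosure.T X ⟶ X := AbsClosure.π X
  have : IsIntegralHom π := inferInstanceAs (IsIntegralHom (AbsClosure.π X))
  obtain ⟨t, ht⟩ := π.surjective ((R2 U j k).hom r)
  let Ω := AlgebraicClosure ((AbsClosure.T X).residueField t)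
  let ξ' : Spec (CommRingCat.of Ω) ⟶ AbsClosure.T X :=
    Spec.map (CommRingCat.ofHom (algebraMap ((AbsClosure.T X).residueField t) Ω)) ≫
      (AbsClosure.T X).fromSpecResidueField t
  have hξ' : ξ' default = t := (AbsClosure.T X).fromSpecResidueField_apply t _
  let ξ := ξ' ≫ π
  have hR : Etale (R2 U j k).hom := (R2 U j k).prop
  obtain ⟨c₀, hc₀, hc₀r⟩ := exists_lift_point (R2 U j k).hom ξ r (by
    rw [show ξ default = π (ξ' default) from rfl, hξ', ht])
  let pt : ∀ l (a : Spec (CommRingCat.of Ω) ⟶ pullback (U l).hom π),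
      a ≫ pullback.snd (U l).hom π = ξ' → Pt ξ (U l) := fun l a ha =>
    mkPt _ (a ≫ pullback.fst (U l).hom π) (by
      rw [Category.assoc, pullback.condition, ← Category.assoc, ha])
  let S : Set (AbsClosure.T X) := closure {t} ∩ π ⁻¹' Set.range i
  let Val : AbsClosure.T X → ((EtCoh.stalk ξ).obj F : AddCommGrpCat.{u + 1}) → Prop := fun z g =>
    ∃ (l : J) (a : Spec (CommRingCat.of Ω) ⟶ pullback (U l).hom π)
      (ha : a ≫ pullback.snd (U l).hom π = ξ') (y : (pullback (U l).hom π : Scheme.{u})),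
      a default ⤳ y ∧ pullback.snd (U l).hom π y = z ∧ g = germ ξ F (pt l a ha) (σ l)
  have hspec : ∀ z ∈ S, ξ' default ⤳ z := fun z hz => by
    rw [hξ']; exact specializes_iff_mem_closure.2 hz.1
  have hunique : ∀ z, π z ∈ Set.range i → ∀ g g', Val z g → Val z g' → g = g' := by
    rintro z hz g g' ⟨l, a, ha, y, hay, hyz, rfl⟩ ⟨m, b, hb, y', hby, hy'z, rfl⟩
    let P := pullback (pullback.snd (U l).hom π) (pullback.snd (U m).hom π)
    let f : P ⟶ AbsClosure.T X := pullback.fst _ _ ≫ pullback.snd (U l).hom π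
    obtain ⟨q, hq1, hq2⟩ := Scheme.Pullback.exists_preimage_pullback
      (f := pullback.snd (U l).hom π) (g := pullback.snd (U m).hom π) y y' (hyz.trans hy'z.symm)
    obtain ⟨O, hqO, hO⟩ := exists_open_immersion_absClosure f q
    have hfq : f q = z := by rw [Scheme.Hom.comp_apply, hq1, hyz]
    obtain ⟨c, hcf, hcq, -⟩ := exists_lift_gen f O ξ' hqO (by
      rw [hfq, ← hyz]
      exact ((hay.map (pullback.snd (U l).hom π).continuous).trans' (by rw [← Scheme.Hom.comp_apply, ha])))
    obtain ⟨O₁, hyO₁, hO₁⟩ := exists_open_immersion_absClosure (pullback.snd (U l).hom π) y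
    obtain ⟨O₂, hyO₂, hO₂⟩ := exists_open_immersion_absClosure (pullback.snd (U m).hom π) y'
    have hc1 : c ≫ pullback.fst _ _ = a := lift_unique (pullback.snd (U l).hom π) O₁ hyO₁
      (by rw [Category.assoc, ha]; exact hcf)
      (by rw [← hq1]; exact hcq.map (pullback.fst (pullback.snd (U l).hom π) (pullback.snd (U m).hom π)).continuous) hay
    have hc2 : c ≫ pullback.snd _ _ = b := lift_unique (pullback.snd (U m).hom π) O₂ hyO₂
      (by rw [Category.assoc, hb, ← pullback.condition]; exact hcf)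
      (by rw [← hq2]; exact hcq.map (pullback.snd (pullback.snd (U l).hom π) (pullback.snd (U m).hom π)).continuous) hby
    let w : P ⟶ (R2 U l m).left :=
      pullback.lift (pullback.fst _ _ ≫ pullback.fst (U l).hom π)
        (pullback.snd _ _ ≫ pullback.fst (U m).hom π) (by
          rw [Category.assoc, Category.assoc, pullback.condition, pullback.condition,
            ← Category.assoc, ← Category.assoc, pullback.condition])
    have hw : w ≫ (R2 U l m).hom = f ≫ π := by
      show w ≫ pullback.fst (U l).hom (U m).hom ≫ (U l).hom = _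
      exact (pullback.lift_fst_assoc _ _ _ _).trans (by
        rw [Category.assoc, pullback.condition, Category.assoc])
    have hwq : w q ∈ vanishing F (diff F U σ l m) :=
      mem_vanishing_of_over i F _ (unit_diff i F U σ τ hσ l m) _ (by
        rw [← Scheme.Hom.comp_apply, hw, Scheme.Hom.comp_apply, hfq]; exact hz)
    let d : Pt ξ (R2 U l m) := mkPt _ (c ≫ w) (by
      rw [Category.assoc, hw, ← Category.assoc, hcf])
    have h0 : germ ξ F d (diff F U σ l m) = 0 :=
      germ_eq_zero_of_mem_vanishing F ξ d _ ((hcq.map w.continuous).mem_open (vanishing F _).2 hwq)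
    rw [diff, map_sub, sub_eq_zero, germ_map, germ_map] at h0
    have e1 : (Scheme.pointSmallEtale ξ).fiber.map (pr1 U l m) d = pt l a ha := hom_ext _ (by
      show (c ≫ w) ≫ pullback.fst _ _ = a ≫ _
      exact (Category.assoc _ _ _).trans ((congrArg (c ≫ ·) (pullback.lift_fst _ _ _)).trans
        ((Category.assoc _ _ _).symm.trans (congrArg (· ≫ pullback.fst (U l).hom π) hc1))))
    have e2 : (Scheme.pointSmallEtale ξ).fiber.map (pr2 U l m) d = pt m b hb := hom_ext _ (by
      show (c ≫ w) ≫ pullback.snd _ _ = b ≫ _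
      exact (Category.assoc _ _ _).trans ((congrArg (c ≫ ·) (pullback.lift_snd _ _ _)).trans
        ((Category.assoc _ _ _).symm.trans (congrArg (· ≫ pullback.fst (U m).hom π) hc2))))
    rwa [e1, e2] at h0
  have hexists : ∀ z ∈ S, ∃ g, ∃ N : Set (AbsClosure.T X), IsOpen N ∧ z ∈ N ∧
      ∀ z' ∈ N ∩ S, Val z' g := by
    intro z hz
    obtain ⟨z₀, hz₀⟩ := hz.2
    obtain ⟨l, w, hw⟩ := hcov z₀
    obtain ⟨y, hy, hyz⟩ := Scheme.Pullback.exists_preimage_pullback (f := (U l).hom) (g := π) w z
      (hw.trans hz₀)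
    obtain ⟨O, hyO, hO⟩ := exists_open_immersion_absClosure (pullback.snd (U l).hom π) y
    obtain ⟨a, ha, hay, haO⟩ := exists_lift_gen (pullback.snd (U l).hom π) O ξ' hyO (by
      rw [hyz]; exact hspec z hz)
    refine ⟨_, Set.range (O.ι ≫ pullback.snd (U l).hom π),
      (O.ι ≫ pullback.snd (U l).hom π).isOpenEmbedding.isOpen_range, ⟨⟨y, hyO⟩, hyz⟩,
      fun z' ⟨⟨o, ho⟩, hz'⟩ => ⟨l, a, ha, O.ι o, ?_, ho, rfl⟩⟩
    have h1 : (O.ι ≫ pullback.snd (U l).hom π) ⟨a default, haO⟩ ⤳ (O.ι ≫ pullback.snd (U l).hom π) o := by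
      rw [ho]
      show (a ≫ pullback.snd (U l).hom π) default ⤳ z'
      rw [ha]; exact hspec z' hz'
    exact ((O.ι ≫ pullback.snd (U l).hom π).isOpenEmbedding.isInducing.specializes_iff.1 h1).map
      O.ι.continuous
  choose! v N hNo hzN hN using hexists
  have hS : _root_.IsConnected S :=
    isConnected_inter_closure i i.isClosedEmbedding.isClosed_range H π t
  have hconst : ∀ z z' : S, v z.1 = v z'.1 := by
    have : PreconnectedSpace S := Subtype.preconnectedSpace hS.isPreconnected
    have hl : IsLocallyConstant fun z : S => v z.1 := (IsLocallyConstant.iff_exists_open _).2 fun z =>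
      ⟨Subtype.val ⁻¹' N z.1, (hNo z.1 z.2).preimage continuous_subtype_val, hzN z.1 z.2,
        fun z' hz' => hunique z'.1 z'.2.2 _ _ (hN z'.1 z'.2 z'.1 ⟨hzN z'.1 z'.2, z'.2⟩)
          (hN z.1 z.2 z'.1 ⟨hz', z'.2⟩)⟩
    exact fun z z' => hl.apply_eq_of_preconnectedSpace z z'
  have hval : ∀ (l : J) (g : R2 U j k ⟶ U l), (∃ w, (U l).hom w ∈ Set.range i ∧ g.left r ⤳ w) →
      ∃ z : S, germ ξ F ((Scheme.pointSmallEtale ξ).fiber.map g (mkPt _ c₀ hc₀)) (σ l) = v z.1 := by
    intro l g ⟨w, hwi, hrw⟩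
    let a : Spec (CommRingCat.of Ω) ⟶ pullback (U l).hom π := pullback.lift (c₀ ≫ g.left) ξ' (by
      rw [Category.assoc, show g.left ≫ (U l).hom = (R2 U j k).hom from Over.w g.hom, hc₀])
    have ha : a ≫ pullback.snd (U l).hom π = ξ' := pullback.lift_snd _ _ _
    have : IsIntegralHom (pullback.fst (U l).hom π) := MorphismProperty.pullback_fst _ _ inferInstance
    have hcl : IsClosedMap (pullback.fst (U l).hom π) := (pullback.fst (U l).hom π).isClosedMap
    have hafst : pullback.fst (U l).hom π (a default) = g.left r := by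
      rw [← Scheme.Hom.comp_apply, pullback.lift_fst, Scheme.Hom.comp_apply, hc₀r]
    obtain ⟨y, hy, hyw⟩ : w ∈ pullback.fst (U l).hom π '' closure {a default} :=
      hrw.mem_closed (hcl _ isClosed_closure) ⟨_, subset_closure rfl, hafst⟩
    have hay : a default ⤳ y := specializes_iff_mem_closure.2 hy
    have hzS : pullback.snd (U l).hom π y ∈ S := by
      refine ⟨specializes_iff_mem_closure.1 ?_, ?_⟩
      · have := hay.map (pullback.snd (U l).hom π).continuous
        rwa [← Scheme.Hom.comp_apply, ha, hξ'] at this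
      · rw [Set.mem_preimage, ← Scheme.Hom.comp_apply, ← pullback.condition, Scheme.Hom.comp_apply, hyw]
        exact hwi
    refine ⟨⟨_, hzS⟩, hunique _ hzS.2 _ _ ⟨l, a, ha, y, hay, rfl, ?_⟩ (hN _ hzS _ ⟨hzN _ hzS, hzS⟩)⟩
    exact congrArg (fun p => germ ξ F p (σ l)) (hom_ext _ (pullback.lift_fst _ _ _).symm)
  obtain ⟨z₁, hz₁⟩ := hval j (pr1 U j k) h1
  obtain ⟨z₂, hz₂⟩ := hval k (pr2 U j k) h2
  rw [← hc₀r]
  refine (EtCore45.germ_eq_zero_iff_mem F ξ (mkPt _ c₀ hc₀) _).1 ?_
  rw [diff, map_sub, sub_eq_zero, germ_map, germ_map, hz₁, hz₂]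
  exact hconst z₁ z₂

end Cov

/-- Sections over the closed subscheme are those over the whole scheme. -/
theorem bijective (H : ConnFinite i) (F : EtCoh.Ab X) :
    Function.Bijective (((EtCoh.pullPushAdj i).unit.app F).hom.app (op (EtCoh.top X))) := by
  refine ⟨(injective_iff_map_eq_zero (((EtCoh.pullPushAdj i).unit.app F).hom.app _).hom).2
    fun σ hσ => ?_, fun τ => ?_⟩
  · have hW := eq_univ_of_range_subset i H (vanishing F σ).2 ((EtCore45.unit_app_eq_zero_iff i F σ).1 hσ)
    refine sect_eq_zero_of_germ F σ fun K _ _ η t => germ_eq_zero_of_mem_vanishing F η t σ ?_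
    exact hW.ge trivial
  let N := (EtCoh.push i).obj ((EtCoh.pull i).obj F)
  choose U₀ haff σ₀ hσ₀ hz₀ using exists_local_lift i F τ
  obtain ⟨L, hL⟩ := i.isClosedEmbedding.isClosed_range.isCompact.elim_finite_subcover
    (fun z : Z => Set.range (U₀ z).hom)
    (fun z => have : Etale (U₀ z).hom := (U₀ z).prop; (U₀ z).hom.isOpenMap.isOpen_range)
    (by rintro _ ⟨z, rfl⟩; exact Set.mem_iUnion.2 ⟨z, hz₀ z⟩)
  let J : Type u := {z : Z // z ∈ L}
  let U : J → X.Etale := fun j => U₀ j.1
  let σ : ∀ j, EtCoh.sect F (U j) := fun j => σ₀ j.1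
  have hσ := fun j : J => hσ₀ j.1
  have hcov : ∀ z : Z, ∃ j : J, i z ∈ Set.range (U j).hom := fun z => by
    obtain ⟨l, hl, h⟩ := Set.mem_iUnion₂.1 (hL ⟨z, rfl⟩)
    exact ⟨⟨l, hl⟩, h⟩
  have hU : ∀ j, Etale (U j).hom := fun j => (U j).prop
  have hUa : ∀ j, IsAffine (U j).left := fun j => haff j.1
  have hUc : ∀ j, CompactSpace ↥((𝟭 Scheme.{u}).obj (U j).left) := fun j => have := hUa j; inferInstanceAs (CompactSpace ↥((U j).left))
  have hUq : ∀ j, QuasiSeparatedSpace ↥((𝟭 Scheme.{u}).obj (U j).left) := fun j => have := hUa j; inferInstanceAs (QuasiSeparatedSpace ↥((U j).left))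
  let K : ∀ j, Set (U j).left := fun j => (U j).hom ⁻¹' Set.range i
  have hK : ∀ j, IsCompact (K j) := fun j =>
    (i.isClosedEmbedding.isClosed_range.preimage (U j).hom.continuous).isCompact
  have pairs : ∀ j k, ∃ (O : Set (U j).left) (O' : Set (U k).left), IsOpen O ∧ K j ⊆ O ∧ IsOpen O' ∧
      K k ⊆ O' ∧ ∀ r, (pr1 U j k).left r ∈ O → (pr2 U j k).left r ∈ O' →
        r ∈ vanishing F (diff F U σ j k) := by
    intro j k
    have : CompactSpace ↥((𝟭 Scheme.{u}).obj (U j).left) := hUc j
    have : CompactSpace ↥((𝟭 Scheme.{u}).obj (U k).left) := hUc k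
    have : QuasiSeparatedSpace ↥((𝟭 Scheme.{u}).obj (U j).left) := hUq j
    have : QuasiSeparatedSpace ↥((𝟭 Scheme.{u}).obj (U k).left) := hUq k
    have : QuasiSeparatedSpace ↥((Functor.fromPUnit X).obj (U j).right) := inferInstanceAs (QuasiSeparatedSpace X)
    have : QuasiSeparatedSpace ↥((Functor.fromPUnit X).obj (U k).right) := inferInstanceAs (QuasiSeparatedSpace X)
    have : QuasiCompact ((U j).hom : (U j).left ⟶ X) := quasiCompact_of_compactSpace _
    have : QuasiCompact ((U k).hom : (U k).left ⟶ X) := quasiCompact_of_compactSpace _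
    have : QuasiSeparated ((U j).hom : (U j).left ⟶ X) := QuasiSeparated.of_quasiSeparatedSpace _
    have : QuasiSeparated ((U k).hom : (U k).left ⟶ X) := QuasiSeparated.of_quasiSeparatedSpace _
    have : QuasiCompact (pullback.fst (U j).hom (U k).hom) := inferInstance
    have : QuasiCompact (pullback.snd (U j).hom (U k).hom) := inferInstance
    have : QuasiSeparated (pullback.fst (U j).hom (U k).hom) := inferInstance
    have : CompactSpace (pullback (U j).hom (U k).hom : Scheme.{u}) :=
      QuasiCompact.compactSpace_of_compactSpace (pullback.fst (U j).hom (U k).hom)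
    have : QuasiSeparatedSpace (pullback (U j).hom (U k).hom : Scheme.{u}) :=
      quasiSeparatedSpace_of_quasiSeparated (pullback.fst (U j).hom (U k).hom)
    have : SpectralSpace ↥(pullback (U j).hom (U k).hom : Scheme.{u}) := { }
    exact exists_open_pair (R := (pullback (U j).hom (U k).hom : Scheme.{u}))
      (pullback.fst (U j).hom (U k).hom).continuous (pullback.snd (U j).hom (U k).hom).continuous
      (fun O ho hc => QuasiCompact.isCompact_preimage O ho hc)
      (fun O ho hc => QuasiCompact.isCompact_preimage O ho hc) (hK j) (hK k)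
      (vanishing F (diff F U σ j k)).2
      (fun r ⟨w, hw, h⟩ ⟨w', hw', h'⟩ =>
        mem_vanishing_diff i F U σ τ hσ hcov H j k r ⟨w, hw, h⟩ ⟨w', hw', h'⟩)
  choose O O' hOo hKO hO'o hKO' hOO' using pairs
  let Q : ∀ j, (U j).left.Opens := fun j =>
    ⟨⋂ k, O j k ∩ O' k j, isOpen_iInter_of_finite fun k => (hOo j k).inter (hO'o k j)⟩
  have hKQ : ∀ j, K j ⊆ Q j := fun j => Set.subset_iInter fun k => Set.subset_inter (hKO j k) (hKO' k j)
  let V : J → X.Etale := fun j => openSub (U j) (Q j)
  let ι : ∀ j, V j ⟶ U j := fun j => openSubι (U j) (Q j)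
  let x : ∀ j, EtCoh.sect F (V j) := fun j => F.obj.map (ι j).op (σ j)
  let vh : ∀ j, (V j).left ⟶ X := fun j => (V j).hom
  have hcovV : ∀ z : Z, ∃ j, i z ∈ Set.range (vh j) := fun z => by
    obtain ⟨j, w, hw⟩ := hcov z
    exact ⟨j, ⟨w, hKQ j ⟨z, hw.symm⟩⟩, hw⟩
  have hVuniv : (⋃ j, Set.range (vh j)) = Set.univ := by
    refine eq_univ_of_range_subset i H (isOpen_iUnion fun j => ?_) ?_
    · have : Etale (V j).hom := (V j).prop
      exact (V j).hom.isOpenMap.isOpen_range
    · rintro _ ⟨z, rfl⟩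
      exact Set.mem_iUnion.2 (hcovV z)
  have hS : Sieve.generate (Presieve.ofArrows V fun j => toTop (V j)) ∈
      X.smallEtaleTopology (EtCoh.top X) := mem_topology fun p => by
    obtain ⟨j, v, hv⟩ := Set.mem_iUnion.1 (hVuniv.ge (Set.mem_univ p))
    refine ⟨V j, toTop (V j), v, ⟨_, 𝟙 _, _, Presieve.ofArrows.mk j, Category.id_comp _⟩, ?_⟩
    rw [← hv]
    exact congrArg (fun φ : (V j).left ⟶ X => φ v)
      ((Category.comp_id _).symm.trans (Over.w (toTop (V j)).hom))
  have hsheaf := (Presieve.isSheafFor_iff_generate _).2 (isSheafFor_forget F hS)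
  rw [Presieve.isSheafFor_arrows_iff] at hsheaf
  obtain ⟨s, hs, -⟩ := hsheaf x (fun j k W gj gk _ => by
    show F.obj.map gj.op (x j) = F.obj.map gk.op (x k)
    let l : W ⟶ R2 U j k := MorphismProperty.Over.homMk
      (pullback.lift (gj ≫ ι j).left (gk ≫ ι k).left
        ((Over.w (gj ≫ ι j).hom).trans (Over.w (gk ≫ ι k).hom).symm)) (by
      show _ ≫ pullback.fst _ _ ≫ _ = _
      rw [pullback.lift_fst_assoc]; exact Over.w (gj ≫ ι j).hom) trivial
    have e1 : gj ≫ ι j = l ≫ pr1 U j k := MorphismProperty.Over.Hom.ext (pullback.lift_fst _ _ _).symm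
    have e2 : gk ≫ ι k = l ≫ pr2 U j k := MorphismProperty.Over.Hom.ext (pullback.lift_snd _ _ _).symm
    have h0 : F.obj.map l.op (diff F U σ j k) = 0 := by
      refine (map_eq_zero_iff_range_le F _ l).2 ?_
      rintro _ ⟨w, rfl⟩
      refine hOO' j k _ ?_ ?_
      · rw [← Scheme.Hom.comp_apply, show l.left ≫ (pr1 U j k).left = gj.left ≫ (Q j).ι from
          congrArg (fun φ => φ.left) e1.symm]
        exact (Set.mem_iInter.1 (gj.left w).2 k).1
      · rw [← Scheme.Hom.comp_apply, show l.left ≫ (pr2 U j k).left = gk.left ≫ (Q k).ι from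
          congrArg (fun φ => φ.left) e2.symm]
        exact (Set.mem_iInter.1 (gk.left w).2 j).2
    simp only [x, ← ConcreteCategory.comp_apply, ← F.obj.map_comp, ← op_comp, e1, e2]
    rw [diff, map_sub, sub_eq_zero] at h0
    simpa only [op_comp, F.obj.map_comp, ConcreteCategory.comp_apply] using h0)
  refine ⟨s, ?_⟩
  rw [← sub_eq_zero]
  let D : EtCoh.sect N (EtCoh.top X) :=
    ((EtCoh.pullPushAdj i).unit.app F).hom.app (op (EtCoh.top X)) s - τ
  have hD : ∀ j, N.obj.map (toTop (V j)).op D = 0 := fun j => by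
    rw [map_sub, sub_eq_zero]
    refine (ConcreteCategory.congr_hom
      (((EtCoh.pullPushAdj i).unit.app F).hom.naturality (toTop (V j)).op) s).symm.trans ?_
    refine (congrArg (((EtCoh.pullPushAdj i).unit.app F).hom.app (op (V j))) (hs j)).trans ?_
    exact (ConcreteCategory.congr_hom
      (((EtCoh.pullPushAdj i).unit.app F).hom.naturality (ι j).op) (σ j)).trans
      ((congrArg (N.obj.map (ι j).op) (hσ j)).trans (map_toTop N (ι j) τ))
  refine sect_eq_zero_of_local ((EtCoh.pull i).obj F) (U := (EtCoh.bc i).obj (EtCoh.top X)) D fun p => ?_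
  let p' : (pullback (EtCoh.top X).hom i : Scheme.{u}) := p
  obtain ⟨j, v, hv⟩ := hcovV (pullback.snd (EtCoh.top X).hom i p')
  have sq := EtCoh.isPullback_bc_map i (toTop (V j))
  have hp : pullback.fst (EtCoh.top X).hom i p' = (toTop (V j)).left v := by
    have h1 : pullback.fst (EtCoh.top X).hom i ≫ (EtCoh.top X).hom =
        pullback.snd (EtCoh.top X).hom i ≫ i := pullback.condition
    have h2 : (toTop (V j)).left ≫ (EtCoh.top X).hom = (V j).hom := Over.w (toTop (V j)).hom
    exact (congrArg (fun φ : (pullback (EtCoh.top X).hom i : Scheme.{u}) ⟶ X => φ p') h1).trans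
      (hv.symm.trans (congrArg (fun φ : (V j).left ⟶ X => φ v) h2).symm)
  obtain ⟨q, hq, -⟩ := Scheme.Pullback.exists_preimage_pullback
    (f := (pullback.fst (EtCoh.top X).hom i : ((EtCoh.bc i).obj (EtCoh.top X)).left ⟶ _))
    (g := (toTop (V j)).left) p v hp
  refine ⟨(EtCoh.bc i).obj (V j), (EtCoh.bc i).map (toTop (V j)), sq.isoPullback.inv q, ?_, hD j⟩
  rw [← Scheme.Hom.comp_apply, IsPullback.isoPullback_inv_fst]
  exact hq

end Groth.Agent.Gabber51
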