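import Groth.Agent.LimTop61.IntegralRefine
import Groth.Agent.Unr55.UnrQF
import Mathlib.AlgebraicGeometry.Morphisms.Etale
import Mathlib.AlgebraicGeometry.Morphisms.FlatMono
import Mathlib.AlgebraicGeometry.Morphisms.QuasiFinite

/-!
Étale morphisms to absolutely integrally closed schemes are local isomorphisms.
-/

set_option autoImplicit false
set_option backward.isDefEq.respectTransparency false
universe u

open CategoryTheory CategoryTheory.Limits AlgebraicGeometry
open Groth.Agent.LimTop61

namespace Groth.Agent.Gabber51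

/-- An etale morphism to the spectrum of a ring in which monic polynomials have roots and whose local
rings are domains is an open immersion near every point. -/
theorem exists_open_immersion_spec {C : Type u} [CommRing C] (hC : HasRoots C)
    (hdom : ∀ (q : Ideal C) [q.IsPrime], IsDomain (Localization.AtPrime q))
    {V : Scheme.{u}} (f : V ⟶ Spec (CommRingCat.of C)) [Etale f] (y : V) :
    ∃ O : V.Opens, y ∈ O ∧ IsOpenImmersion (O.ι ≫ f) := by
  have := Unr55.locallyQuasiFinite_of_formallyUnramified f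
  obtain ⟨V₀, hV₀, hV₀y⟩ := isDiscrete_iff_forall_mem_exists_isOpen.1
    (f.isDiscrete_preimage_singleton (f y)) y rfl
  obtain ⟨_, ⟨W, hW, rfl⟩, hyW, hWV⟩ :=
    V.isBasis_affineOpens.exists_subset_of_mem_open (hV₀y.ge rfl).1 hV₀
  let g : Spec Γ(V, W) ⟶ Spec (CommRingCat.of C) := hW.fromSpec ≫ f
  obtain ⟨φ, hφ⟩ := Spec.map_surjective g
  let B : Type u := Γ(V, W)
  let φ' : C →+* B := φ.hom
  algebraize [φ']
  have : Etale (Spec.map φ) := hφ ▸ inferInstance
  have het : φ'.Etale := HasRingHomProperty.Spec_iff.1 this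
  have : Algebra.Etale C B := het
  obtain ⟨x', hx'⟩ : y ∈ Set.range hW.fromSpec := by rw [hW.range_fromSpec]; exact hyW
  have hgx : Spec.map φ x' = f y := by rw [hφ, Scheme.Hom.comp_apply, hx']
  let z : PrimeSpectrum C := f y
  have := hdom z.asIdeal
  have : Algebra.QuasiFinite C B := inferInstance
  obtain ⟨c, hc, ⟨σ⟩⟩ := exists_section_away (A := C) (C := C) (B := B) hC z.asIdeal x' hgx
  let L := Localization.Away c
  let j : Spec (CommRingCat.of L) ⟶ Spec (CommRingCat.of C) :=
    Spec.map (CommRingCat.ofHom (algebraMap C L))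
  have hj : IsOpenImmersion j := IsOpenImmersion.of_isLocalization c
  let r : Spec (CommRingCat.of L) ⟶ V := Spec.map (CommRingCat.ofHom σ.toRingHom) ≫ hW.fromSpec
  have hr : r ≫ f = j := by
    simp only [r, Category.assoc]
    rw [← show Spec.map φ = hW.fromSpec ≫ f from hφ, ← Spec.map_comp]
    exact congrArg Spec.map (CommRingCat.hom_ext (RingHom.ext fun a => σ.commutes a))
  have : Etale (r ≫ f) := by rw [hr]; infer_instance
  have : Etale r := MorphismProperty.of_postcomp @Etale (W' := @Etale) r f inferInstance this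
  have : Mono (r ≫ f) := by rw [hr]; infer_instance
  have : Mono r := mono_of_mono r f
  have : IsOpenImmersion r := IsOpenImmersion.of_flat_of_mono r
  refine ⟨r.opensRange, ?_, ?_⟩
  · obtain ⟨w, hw⟩ : z ∈ Set.range (PrimeSpectrum.comap (algebraMap C L)) := by
      rw [PrimeSpectrum.localization_away_comap_range L c]
      exact hc
    refine ⟨w, hV₀y.le ⟨hWV ?_, ?_⟩⟩
    · rw [← hW.range_fromSpec]
      exact ⟨_, rfl⟩
    · show (r ≫ f) w = f y
      rw [hr]; exact hw
  · rw [show r.opensRange.ι ≫ f = r.isoOpensRange.inv ≫ j by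
      rw [← hr, ← Category.assoc, Scheme.Hom.isoOpensRange_inv_comp]]
    infer_instance

/-- The same over the absolute integral closure of a scheme. -/
theorem exists_open_immersion_absClosure {S V : Scheme.{u}} (g : V ⟶ AbsClosure.T S) [Etale g] (y : V) :
    ∃ O : V.Opens, y ∈ O ∧ IsOpenImmersion (O.ι ≫ g) := by
  obtain ⟨_, ⟨U, hU, rfl⟩, htU, -⟩ :=
    S.isBasis_affineOpens.exists_subset_of_mem_open (Set.mem_univ (AbsClosure.π S (g y))) isOpen_univ
  obtain ⟨z, hz⟩ : g y ∈ ((AbsClosure.chart S).f ⟨U, hU⟩).opensRange := by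
    rw [← AbsClosure.π_preimage]; exact htU
  let C := AbsClosure.integ S U
  let j : Spec (CommRingCat.of C) ⟶ AbsClosure.T S := (AbsClosure.chart S).f ⟨U, hU⟩
  have : IsOpenImmersion j := inferInstanceAs (IsOpenImmersion ((AbsClosure.chart S).f ⟨U, hU⟩))
  obtain ⟨p, hp, -⟩ := Scheme.Pullback.exists_preimage_pullback (f := g) (g := j) y z hz.symm
  obtain ⟨O', hpO, hO'⟩ := exists_open_immersion_spec (AbsClosure.hasRoots_integ S U)
    (fun q _ => AbsClosure.isDomain_localization S U q) (pullback.snd g j) p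
  let r : O'.toScheme ⟶ V := O'.ι ≫ pullback.fst g j
  have : IsOpenImmersion r := inferInstance
  refine ⟨r.opensRange, ⟨⟨p, hpO⟩, hp⟩, ?_⟩
  rw [show r.opensRange.ι ≫ g = r.isoOpensRange.inv ≫ (O'.ι ≫ pullback.snd g j) ≫ j by
    rw [Category.assoc, ← pullback.condition, ← Category.assoc O'.ι, ← Category.assoc r.isoOpensRange.inv,
      Scheme.Hom.isoOpensRange_inv_comp]]
  infer_instance

end Groth.Agent.Gabber51
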