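import Groth.Agent.Gabber51.LocalSection
import Groth.Agent.EtCore45.Vanish
import Groth.Agent.Unr55.Et.ClosedPush

/-!
Geometric points and local isomorphisms.
-/

set_option autoImplicit false
set_option backward.isDefEq.respectTransparency.types false
universe u

open CategoryTheory CategoryTheory.Limits AlgebraicGeometry Opposite
open Groth.Agent.Unr55.EtSh

namespace Groth.Agent.Gabber51

variable {P T : Scheme.{u}} (f : P ⟶ T) {Ω : Type u} [Field Ω]

/-- A geometric point generizing the image of a point of an open immersed neighbourhood lifts. -/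
theorem exists_lift_gen (O : P.Opens) [IsOpenImmersion (O.ι ≫ f)]
    (ξ : Spec (CommRingCat.of Ω) ⟶ T) {y : P} (hy : y ∈ O) (h : ξ default ⤳ f y) :
    ∃ a : Spec (CommRingCat.of Ω) ⟶ P, a ≫ f = ξ ∧ a default ⤳ y ∧ a default ∈ O := by
  have hmem : ξ default ∈ Set.range (O.ι ≫ f) :=
    h.mem_open (O.ι ≫ f).isOpenEmbedding.isOpen_range ⟨⟨y, hy⟩, rfl⟩
  let l := IsOpenImmersion.lift (O.ι ≫ f) ξ (by
    rintro _ ⟨a, rfl⟩
    rw [default_eq a]
    exact hmem)
  have hl : l ≫ O.ι ≫ f = ξ := IsOpenImmersion.lift_fac _ _ _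
  refine ⟨l ≫ O.ι, by rw [Category.assoc, hl], ?_, (l default).2⟩
  have h1 : (O.ι ≫ f) (l default) ⤳ (O.ι ≫ f) ⟨y, hy⟩ := by
    rw [← Scheme.Hom.comp_apply, hl]
    exact h
  exact ((O.ι ≫ f).isOpenEmbedding.isInducing.specializes_iff.1 h1).map O.ι.continuous

/-- Two lifts generizing a point of an open immersed neighbourhood are equal. -/
theorem lift_unique (O : P.Opens) [IsOpenImmersion (O.ι ≫ f)] {y : P} (hy : y ∈ O)
    {a b : Spec (CommRingCat.of Ω) ⟶ P} (hab : a ≫ f = b ≫ f) (ha : a default ⤳ y)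
    (hb : b default ⤳ y) : a = b := by
  have ha' := liftOpen_fac O a (ha.mem_open O.2 hy)
  have hb' := liftOpen_fac O b (hb.mem_open O.2 hy)
  have : liftOpen O a (ha.mem_open O.2 hy) = liftOpen O b (hb.mem_open O.2 hy) := by
    rw [← cancel_mono (O.ι ≫ f), ← Category.assoc, ← Category.assoc, ha', hb', hab]
  rw [← ha', ← hb', this]

/-- Through every point over the image of an algebraically closed geometric point passes a lift. -/
theorem exists_lift_point [IsAlgClosed Ω] {U X : Scheme.{u}} (g : U ⟶ X) [Etale g]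
    (ξ : Spec (CommRingCat.of Ω) ⟶ X) (u : U) (h : g u = ξ default) :
    ∃ a : Spec (CommRingCat.of Ω) ⟶ U, a ≫ g = ξ ∧ a default = u := by
  obtain ⟨p, hp, -⟩ := Scheme.Pullback.exists_preimage_pullback (f := g) (g := ξ) u default h
  have hR : LimTop61.HasRoots Ω := fun P hP h0 =>
    IsAlgClosed.exists_root P (Polynomial.degree_ne_of_natDegree_ne (n := 0) h0)
  have hdom : ∀ (q : Ideal Ω) [q.IsPrime], IsDomain (Localization.AtPrime q) := fun q _ =>
    IsLocalization.isDomain_localization q.primeCompl_le_nonZeroDivisors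
  obtain ⟨O, hpO, hO⟩ := exists_open_immersion_spec hR hdom (pullback.snd g ξ) p
  obtain ⟨a, ha, -, haO⟩ := exists_lift_gen (pullback.snd g ξ) O (𝟙 _) hpO (by
    rw [default_eq (pullback.snd g ξ p)]; exact specializes_rfl)
  refine ⟨a ≫ pullback.fst g ξ, ?_, ?_⟩
  · rw [Category.assoc, pullback.condition, ← Category.assoc, ha, Category.id_comp]
  · have : (⟨a default, haO⟩ : O.toScheme) = ⟨p, hpO⟩ :=
      (O.ι ≫ pullback.snd g ξ).isOpenEmbedding.injective (Subsingleton.elim _ _)
    rw [Scheme.Hom.comp_apply, show a default = p from congrArg Subtype.val this, hp]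

/-- A section killed by the unit vanishes near every point over the image. -/
theorem mem_vanishing_of_over {Z X : Scheme.{u}} (i : Z ⟶ X) [IsClosedImmersion i] (F : EtCoh.Ab X)
    {U : X.Etale} (σ : EtCoh.sect F U)
    (hσ : ((EtCoh.pullPushAdj i).unit.app F).hom.app (op U) σ = 0) (r : U.left)
    (hr : U.hom r ∈ Set.range i) : r ∈ vanishing F σ := by
  obtain ⟨K, _, _, η, t, rfl⟩ := point_over U r
  have hη : η default ∈ Set.range i := by
    have e : hom η t ≫ U.hom = η := Over.w t
    rw [← e]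
    exact hr
  obtain ⟨ξ, rfl⟩ := exists_point_lift i η hη
  refine (EtCore45.germ_eq_zero_iff_mem F (ξ ≫ i) t σ).1 ((theta_bijective i ξ F).1 ?_)
  rw [theta_germ, map_zero]
  exact (congrArg (germ ξ ((EtCoh.pull i).obj F) (ptUp i ξ t)) hσ).trans (map_zero _)

end Groth.Agent.Gabber51
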